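import Groth.Agent.TorsorLift.Descent

/-! A multiplicative cocycle on a faithfully flat algebra is locally a coboundary. -/

set_option autoImplicit false

universe u
open TensorProduct

namespace Groth.Agent.GmTorsor

variable {A B : Type u} [CommRing A] [CommRing B] [Algebra A B] [Module.FaithfullyFlat A B]

theorem exists_algebraMap_eq (t : B) (h : (1 : B) ⊗ₜ[A] t = t ⊗ₜ[A] 1) : ∃ a, algebraMap A B a = t := by
  obtain ⟨a, ha⟩ := TorsorLift.mem_range_of_one_tmul (S := B) (Algebra.linearMap A B) t ⟨t ⊗ₜ[A] (1 : A), by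
    rw [LinearMap.lTensor_tmul, h, Algebra.linearMap_apply, map_one]⟩
  exact ⟨a, ha⟩

/-- The difference whose kernel consists of the elements trivializing the cocycle. -/
noncomputable def delta (u : B ⊗[A] B) : B →ₗ[A] B ⊗[A] B :=
  (LinearMap.mulLeft A u).comp (Algebra.TensorProduct.includeRight : B →ₐ[A] B ⊗[A] B).toLinearMap -
    (Algebra.TensorProduct.includeLeft : B →ₐ[A] B ⊗[A] B).toLinearMap

omit [Module.FaithfullyFlat A B] in
theorem mem_ker_delta {u : B ⊗[A] B} {m : B} :
    m ∈ LinearMap.ker (delta u) ↔ u * ((1 : B) ⊗ₜ[A] m) = m ⊗ₜ[A] 1 := by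
  simp [delta, sub_eq_zero]

theorem mem_range_ker (u v : B ⊗[A] B) (hv : u * v = 1)
    (h : Algebra.TensorProduct.map (AlgHom.id A B) (Algebra.TensorProduct.includeRight : B →ₐ[A] B ⊗[A] B) u =
      ((1 : B) ⊗ₜ[A] u) *
        Algebra.TensorProduct.map (AlgHom.id A B) (Algebra.TensorProduct.includeLeft : B →ₐ[A] B ⊗[A] B) u) :
    v ∈ LinearMap.range ((LinearMap.ker (delta u)).subtype.lTensor B) := by
  let e13 := Algebra.TensorProduct.map (AlgHom.id A B) (Algebra.TensorProduct.includeRight : B →ₐ[A] B ⊗[A] B)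
  let e12 := Algebra.TensorProduct.map (AlgHom.id A B) (Algebra.TensorProduct.includeLeft : B →ₐ[A] B ⊗[A] B)
  refine ((Module.Flat.lTensor_exact B (LinearMap.exact_subtype_ker_map (delta u))) v).mp ?_
  have e : ∀ z : B ⊗[A] B, LinearMap.lTensor B (delta u) z = ((1 : B) ⊗ₜ[A] u) * e13 z - e12 z := by
    intro z
    induction z using TensorProduct.induction_on with
    | zero => simp only [map_zero, mul_zero, sub_zero]
    | tmul b m => simp [delta, e13, e12, TensorProduct.tmul_sub]
    | add z w hz hw =>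
      simp only [map_add, hz, hw, mul_add]
      abel
  rw [e, sub_eq_zero]
  have h12 : e12 u * e12 v = 1 := by rw [← map_mul, hv, map_one]
  have h13 : e13 u * e13 v = 1 := by rw [← map_mul, hv, map_one]
  calc ((1 : B) ⊗ₜ[A] u) * e13 v = (((1 : B) ⊗ₜ[A] u) * e13 v) * (e12 u * e12 v) := by rw [h12, mul_one]
    _ = (((1 : B) ⊗ₜ[A] u) * e12 u) * e13 v * e12 v := by ring
    _ = e13 u * e13 v * e12 v := by rw [← h]
    _ = e12 v := by rw [h13, one_mul]

/-- Locally on the base a multiplicative cocycle is a coboundary. -/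
theorem exists_trivializing (u v : B ⊗[A] B) (hv : u * v = 1)
    (h : Algebra.TensorProduct.map (AlgHom.id A B) (Algebra.TensorProduct.includeRight : B →ₐ[A] B ⊗[A] B) u =
      ((1 : B) ⊗ₜ[A] u) *
        Algebra.TensorProduct.map (AlgHom.id A B) (Algebra.TensorProduct.includeLeft : B →ₐ[A] B ⊗[A] B) u)
    (p : Ideal A) [p.IsPrime] :
    ∃ (a : A) (m n : B), a ∉ p ∧ u * ((1 : B) ⊗ₜ[A] m) = m ⊗ₜ[A] 1 ∧ m * n = algebraMap A B a := by
  have h' : Algebra.TensorProduct.map (AlgHom.id A B) (Algebra.TensorProduct.includeRight : B →ₐ[A] B ⊗[A] B) v =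
      ((1 : B) ⊗ₜ[A] v) *
        Algebra.TensorProduct.map (AlgHom.id A B) (Algebra.TensorProduct.includeLeft : B →ₐ[A] B ⊗[A] B) v := by
    have h1 : ((1 : B) ⊗ₜ[A] u) * ((1 : B) ⊗ₜ[A] v) = 1 := by
      rw [Algebra.TensorProduct.tmul_mul_tmul, mul_one, hv]; rfl
    refine left_inv_eq_right_inv
      (a := Algebra.TensorProduct.map (AlgHom.id A B) (Algebra.TensorProduct.includeRight : B →ₐ[A] B ⊗[A] B) u) ?_ ?_
    · rw [← map_mul, mul_comm v u, hv, map_one]
    · rw [h, mul_mul_mul_comm, h1, one_mul, ← map_mul, hv, map_one]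
  let I : Ideal A := Ideal.span {a | ∃ m n : B, u * ((1 : B) ⊗ₜ[A] m) = m ⊗ₜ[A] 1 ∧ m * n = algebraMap A B a}
  suffices hI : I = ⊤ by
    obtain ⟨a, ⟨m, n, hm, hmn⟩, ha⟩ := Set.not_subset.mp
      (fun hs => ‹p.IsPrime›.ne_top (top_le_iff.mp (hI ▸ Ideal.span_le.mpr hs)))
    exact ⟨a, m, n, ha, hm, hmn⟩
  obtain ⟨z, hz⟩ := mem_range_ker u v hv h
  obtain ⟨w, hw⟩ := mem_range_ker v u (by rw [mul_comm, hv]) h'
  have key : ∀ z w, Algebra.TensorProduct.lmul' A
      ((LinearMap.ker (delta u)).subtype.lTensor B z * (LinearMap.ker (delta v)).subtype.lTensor B w) ∈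
      I.map (algebraMap A B) := by
    intro z w
    induction z using TensorProduct.induction_on with
    | zero => simp only [map_zero, zero_mul, Submodule.zero_mem]
    | tmul b m =>
      induction w using TensorProduct.induction_on with
      | zero => simp only [map_zero, mul_zero, Submodule.zero_mem]
      | tmul c n =>
        have hm := mem_ker_delta.mp m.2
        have hn := mem_ker_delta.mp n.2
        obtain ⟨a, ha⟩ := exists_algebraMap_eq ((m : B) * n) (by
          have e := congrArg₂ (· * ·) hm hn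
          rw [mul_mul_mul_comm, hv, one_mul, Algebra.TensorProduct.tmul_mul_tmul,
            Algebra.TensorProduct.tmul_mul_tmul, one_mul] at e
          exact e)
        rw [LinearMap.lTensor_tmul, LinearMap.lTensor_tmul, Algebra.TensorProduct.tmul_mul_tmul,
          Algebra.TensorProduct.lmul'_apply_tmul]
        refine Ideal.mul_mem_left _ _ ?_
        change (m : B) * n ∈ _
        rw [← ha]
        exact Ideal.mem_map_of_mem _ (Ideal.subset_span ⟨m, n, hm, ha.symm⟩)
      | add w w' hw hw' => simp only [map_add, mul_add]; exact Submodule.add_mem _ hw hw'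
    | add z z' hz hz' => simp only [map_add, add_mul]; exact Submodule.add_mem _ hz hz'
  have h1 := key z w
  rw [hz, hw, mul_comm v u, hv, map_one] at h1
  rw [← Ideal.comap_map_eq_self_of_faithfullyFlat (B := B) I, (Ideal.eq_top_iff_one _).mpr h1, Ideal.comap_top]

end Groth.Agent.GmTorsor
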