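import Groth.Agent.GmTorsor.Points
import Groth.Agent.GmTorsor.Alg
import Groth.Prelude.Def_NonAbH2
import Groth.Agent.SchDesc.TorsorDesc
import Groth.Agent.FpqcDesc.Basic
import Groth.Agent.ASp.Fpqc

/-! Torsors of the additive and of the multiplicative group are Zariski locally trivial. -/

set_option autoImplicit false
set_option backward.isDefEq.respectTransparency false

universe u
open CategoryTheory Limits MonoidalCategory CartesianMonoidalCategory MonObj GrpObj AlgebraicGeometry
open scoped TensorProduct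

noncomputable section

namespace Groth.Agent.GmTorsor

section
variable {S : Scheme.{u}} {G X : Over S} [GrpObj G] (a : AlgGrp.Action G X)

theorem act_one {T : Over S} (x : T ⟶ X) : lift (1 : T ⟶ G) x ≫ a.act = x := by
  have h := congrArg (lift (toUnit T) x ≫ ·) a.one_act
  simp only [lift_whiskerRight_assoc] at h
  rw [Hom.one_def]
  exact h.trans (lift_leftUnitor_hom _ _)

theorem act_mul {T : Over S} (g h : T ⟶ G) (x : T ⟶ X) :
    lift (g * h) x ≫ a.act = lift g (lift h x ≫ a.act) ≫ a.act := by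
  have e := congrArg (lift (lift g h) x ≫ ·) a.mul_act
  simp only [lift_whiskerRight_assoc, lift_lift_associator_hom_assoc, lift_whiskerLeft_assoc] at e
  exact e

theorem comp_act {T T' : Over S} (p : T' ⟶ T) (g : T ⟶ G) (x : T ⟶ X) :
    p ≫ lift g x ≫ a.act = lift (p ≫ g) (p ≫ x) ≫ a.act := by
  rw [← Category.assoc, comp_lift]

theorem existsUnique_act (ha : NonAbH1.IsPseudoTorsorSch a) {T : Over S} (x y : T ⟶ X) :
    ∃! g : T ⟶ G, lift g x ≫ a.act = y := by
  haveI : IsIso (lift a.act (snd G X)) := ha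
  let w := lift y x ≫ inv (lift a.act (snd G X))
  have hw : w ≫ lift a.act (snd G X) = lift y x := by
    simp only [w, Category.assoc, IsIso.inv_hom_id, Category.comp_id]
  have h1 : w ≫ a.act = y := by simpa using congrArg (· ≫ fst X X) hw
  have h2 : w ≫ snd G X = x := by simpa using congrArg (· ≫ snd X X) hw
  refine ⟨w ≫ fst G X, ?_, fun g hg => ?_⟩
  · show lift (w ≫ fst G X) x ≫ a.act = y
    rw [← h2, lift_comp_fst_snd]
    exact h1
  · have e : lift g x = w := by
      rw [← cancel_mono (lift a.act (snd G X)), hw, comp_lift, hg, lift_snd]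
    rw [← e, lift_fst]

end

section Descent
variable (A B : Type u) [CommRing A] [CommRing B] [Algebra A B]

theorem spec_cond :
    Spec.map (CommRingCat.ofHom (Algebra.TensorProduct.includeLeft : B →ₐ[A] B ⊗[A] B).toRingHom) ≫
        Spec.map (CommRingCat.ofHom (algebraMap A B)) =
      Spec.map (CommRingCat.ofHom (Algebra.TensorProduct.includeRight : B →ₐ[A] B ⊗[A] B).toRingHom) ≫
        Spec.map (CommRingCat.ofHom (algebraMap A B)) :=
  (isPullback_SpecMap_of_isPushout _ _ _ _ (CommRingCat.isPushout_tensorProduct A B B)).w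

variable [Module.FaithfullyFlat A B]

theorem exists_descent {Z : Scheme.{u}} (z : Spec (CommRingCat.of B) ⟶ Z)
    (h : Spec.map (CommRingCat.ofHom (Algebra.TensorProduct.includeLeft : B →ₐ[A] B ⊗[A] B).toRingHom) ≫ z =
      Spec.map (CommRingCat.ofHom (Algebra.TensorProduct.includeRight : B →ₐ[A] B ⊗[A] B).toRingHom) ≫ z) :
    ∃ s : Spec (CommRingCat.of A) ⟶ Z, Spec.map (CommRingCat.ofHom (algebraMap A B)) ≫ s = z := by
  have hff : (algebraMap A B).FaithfullyFlat := RingHom.faithfullyFlat_algebraMap_iff.mpr ‹_›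
  haveI : Flat (Spec.map (CommRingCat.ofHom (algebraMap A B))) :=
    (HasRingHomProperty.Spec_iff (P := @Flat)).mpr (RingHom.FaithfullyFlat.iff_flat_and_comap_surjective.mp hff).1
  haveI : Surjective (Spec.map (CommRingCat.ofHom (algebraMap A B))) :=
    ⟨(RingHom.FaithfullyFlat.iff_flat_and_comap_surjective.mp hff).2⟩
  refine ⟨EffectiveEpi.desc (Spec.map (CommRingCat.ofHom (algebraMap A B))) z fun g₁ g₂ hg => ?_,
    EffectiveEpi.fac _ _ _⟩
  have hp := isPullback_SpecMap_of_isPushout _ _ _ _ (CommRingCat.isPushout_tensorProduct A B B)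
  have e := congrArg (hp.lift g₁ g₂ hg ≫ ·) h
  simp only [← Category.assoc] at e
  erw [hp.lift_fst g₁ g₂ hg, hp.lift_snd g₁ g₂ hg] at e
  exact e

theorem epi_spec : Epi (Spec.map (CommRingCat.ofHom (algebraMap A B))) := by
  have hff : (algebraMap A B).FaithfullyFlat := RingHom.faithfullyFlat_algebraMap_iff.mpr ‹_›
  haveI : Flat (Spec.map (CommRingCat.ofHom (algebraMap A B))) :=
    (HasRingHomProperty.Spec_iff (P := @Flat)).mpr (RingHom.FaithfullyFlat.iff_flat_and_comap_surjective.mp hff).1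
  haveI : Surjective (Spec.map (CommRingCat.ofHom (algebraMap A B))) :=
    ⟨(RingHom.FaithfullyFlat.iff_flat_and_comap_surjective.mp hff).2⟩
  infer_instance

end Descent

section Cover
variable {S : Scheme.{u}} (X : Over S)

theorem isLocallyTrivialFor_zariski
    (h : ∀ s : S, ∃ (U : Scheme.{u}) (f : U ⟶ S), IsOpenImmersion f ∧ s ∈ Set.range f ∧ NonAbH1.HasSectionOver X f) :
    NonAbH1.IsLocallyTrivialFor Scheme.zariskiPrecoverage X := by
  choose U f hf hs hX using h
  let E : PreZeroHypercover.{u} S := { I₀ := S, X := U, f := f }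
  refine ⟨E.presieve₀, (Scheme.presieve₀_mem_precoverage_iff (P := @IsOpenImmersion) E).mpr ⟨fun s => ⟨s, hs s⟩, hf⟩, ?_⟩
  rintro S' g ⟨i⟩
  exact hX i

/-- A faithfully flat affine algebra over a neighbourhood with a point. -/
theorem exists_local_point [IsAffineHom X.hom] [Flat X.hom] [Surjective X.hom] (s : S) :
    ∃ (A B : Type u) (_ : CommRing A) (_ : CommRing B) (_ : Algebra A B) (_ : Module.FaithfullyFlat A B)
      (j : Spec (CommRingCat.of A) ⟶ S) (x : Spec (CommRingCat.of B) ⟶ X.left), IsOpenImmersion j ∧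
        s ∈ Set.range j ∧ x ≫ X.hom = Spec.map (CommRingCat.ofHom (algebraMap A B)) ≫ j := by
  obtain ⟨U, hU, hsU, -⟩ := exists_isAffineOpen_mem_and_subset (x := s) (U := ⊤) trivial
  let P := pullback X.hom hU.fromSpec
  haveI : IsAffineHom (pullback.snd X.hom hU.fromSpec) := MorphismProperty.pullback_snd _ _ inferInstance
  haveI : IsAffine P := isAffine_of_isAffineHom (pullback.snd X.hom hU.fromSpec)
  let π : Spec Γ(P, ⊤) ⟶ Spec Γ(S, U) := P.isoSpec.inv ≫ pullback.snd X.hom hU.fromSpec
  haveI : Flat (pullback.snd X.hom hU.fromSpec) := MorphismProperty.pullback_snd _ _ inferInstance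
  haveI : Surjective (pullback.snd X.hom hU.fromSpec) := MorphismProperty.pullback_snd _ _ inferInstance
  haveI hfl : Flat π := inferInstance
  haveI hsu : Surjective π := inferInstance
  let φ := Spec.preimage π
  have hφ : Spec.map φ = π := Spec.map_preimage π
  letI : Algebra Γ(S, U) Γ(P, ⊤) := φ.hom.toAlgebra
  have hff : φ.hom.FaithfullyFlat := by
    rw [RingHom.FaithfullyFlat.iff_flat_and_comap_surjective]
    rw [← hφ] at hfl hsu
    exact ⟨(HasRingHomProperty.Spec_iff (P := @Flat)).mp hfl, hsu.surj⟩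
  haveI : Module.FaithfullyFlat Γ(S, U) Γ(P, ⊤) := hff
  refine ⟨Γ(S, U), Γ(P, ⊤), inferInstance, inferInstance, inferInstance, this, hU.fromSpec,
    P.isoSpec.inv ≫ pullback.fst X.hom hU.fromSpec, inferInstance, by erw [hU.range_fromSpec]; exact hsU, ?_⟩
  change _ = Spec.map φ ≫ hU.fromSpec
  rw [hφ, Category.assoc, Category.assoc, pullback.condition]

end Cover

section Cocycle
variable {S : Scheme.{u}} {G X : Over S} [GrpObj G] (a : AlgGrp.Action G X)
variable {A B : Type u} [CommRing A] [CommRing B] [Algebra A B]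

/-- The structure morphism of the spectrum of an algebra. -/
abbrev base (j : Spec (CommRingCat.of A) ⟶ S) (C : Type u) [CommRing C] [Algebra A C] :
    Spec (CommRingCat.of C) ⟶ S :=
  Spec.map (CommRingCat.ofHom (algebraMap A C)) ≫ j

theorem base_comm (j : Spec (CommRingCat.of A) ⟶ S) {C C' : Type u} [CommRing C] [CommRing C'] [Algebra A C]
    [Algebra A C'] (ψ : C →ₐ[A] C') : Spec.map (CommRingCat.ofHom ψ.toRingHom) ≫ base j C = base j C' := by
  rw [base, ← Category.assoc, ← Spec.map_comp, ← CommRingCat.ofHom_comp]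
  congr 3
  exact ψ.comp_algebraMap

/-- The morphism over `S` of an algebra map. -/
abbrev amor (j : Spec (CommRingCat.of A) ⟶ S) {C C' : Type u} [CommRing C] [CommRing C'] [Algebra A C]
    [Algebra A C'] (ψ : C →ₐ[A] C') : Over.mk (base j C') ⟶ Over.mk (base j C) :=
  mor ψ.toRingHom (base_comm j ψ)

theorem amor_comp (j : Spec (CommRingCat.of A) ⟶ S) {C C' C'' : Type u} [CommRing C] [CommRing C'] [CommRing C'']
    [Algebra A C] [Algebra A C'] [Algebra A C''] (ψ : C →ₐ[A] C') (ψ' : C' →ₐ[A] C'') :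
    amor j ψ' ≫ amor j ψ = amor j (ψ'.comp ψ) := by
  refine Over.OverMorphism.ext ?_
  simp only [amor, mor, Over.comp_left, Over.homMk_left, ← Spec.map_comp]
  rfl

local notation "iL" => (Algebra.TensorProduct.includeLeft : B →ₐ[A] B ⊗[A] B)
local notation "iR" => (Algebra.TensorProduct.includeRight : B →ₐ[A] B ⊗[A] B)

theorem exists_cocycle (ha : NonAbH1.IsPseudoTorsorSch a) (j : Spec (CommRingCat.of A) ⟶ S)
    (x : Over.mk (base j B) ⟶ X) :
    ∃ g : Over.mk (base j (B ⊗[A] B)) ⟶ G,
      lift g (amor j iL ≫ x) ≫ a.act = amor j iR ≫ x ∧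
      amor j (Algebra.TensorProduct.map (AlgHom.id A B) iR) ≫ g =
        (amor j (Algebra.TensorProduct.includeRight : B ⊗[A] B →ₐ[A] B ⊗[A] (B ⊗[A] B)) ≫ g) *
          (amor j (Algebra.TensorProduct.map (AlgHom.id A B) iL) ≫ g) := by
  obtain ⟨g, hg, -⟩ := existsUnique_act a ha (amor j iL ≫ x) (amor j iR ≫ x)
  refine ⟨g, hg, ?_⟩
  let e12 := Algebra.TensorProduct.map (AlgHom.id A B) iL
  let e13 := Algebra.TensorProduct.map (AlgHom.id A B) iR
  let e23 : B ⊗[A] B →ₐ[A] B ⊗[A] (B ⊗[A] B) := Algebra.TensorProduct.includeRight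
  have k : ∀ e : B ⊗[A] B →ₐ[A] B ⊗[A] (B ⊗[A] B),
      lift (amor j e ≫ g) (amor j (e.comp iL) ≫ x) ≫ a.act = amor j (e.comp iR) ≫ x := by
    intro e
    rw [← amor_comp, ← amor_comp, Category.assoc, Category.assoc, ← comp_act, hg]
  have c1 : e13.comp iL = e12.comp iL := by ext b; simp [e13, e12]
  have c2 : e12.comp iR = e23.comp iL := by ext b; simp [e12, e23]
  have c3 : e23.comp iR = e13.comp iR := by ext b; simp [e13, e23]
  refine (existsUnique_act a ha (amor j (e12.comp iL) ≫ x) (amor j (e13.comp iR) ≫ x)).unique ?_ ?_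
  · have := k e13
    rw [c1] at this
    exact this
  · rw [act_mul, k e12, c2, k e23, c3]

end Cocycle

variable {S : Scheme.{u}}

/-- Torsors of the additive group have sections over affine opens. -/
theorem hasSectionOver_ga {X : Over S} (a : AlgGrp.Action (Red.Ga S) X) (ha : NonAbH1.IsPseudoTorsorSch a)
    {A B : Type u} [CommRing A] [CommRing B] [Algebra A B] [Module.FaithfullyFlat A B]
    (j : Spec (CommRingCat.of A) ⟶ S) (x : Over.mk (base j B) ⟶ X) : NonAbH1.HasSectionOver X j := by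
  obtain ⟨g, hg, hc⟩ := exists_cocycle a ha j x
  have hc' := congrArg gaVal hc
  rw [gaVal_mul, gaVal_mor, gaVal_mor, gaVal_mor] at hc'
  obtain ⟨y, hy⟩ := TorsorLift.exists_d1_eq (gaVal g) (hc'.trans (add_comm _ _))
  obtain ⟨h, hh⟩ := exists_gaVal (f := base j B) (-y)
  let z := lift h x ≫ a.act
  have hz : amor j (Algebra.TensorProduct.includeLeft : B →ₐ[A] B ⊗[A] B) ≫ z =
      amor j (Algebra.TensorProduct.includeRight : B →ₐ[A] B ⊗[A] B) ≫ z := by
    simp only [z, comp_act]
    rw [← hg, ← act_mul]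
    congr 2
    refine gaVal_injective ?_
    rw [gaVal_mul, gaVal_mor, gaVal_mor, hh, ← hy, TorsorLift.d1_apply]
    change (-y) ⊗ₜ[A] (1 : B) = (1 : B) ⊗ₜ[A] (-y) + _
    rw [TensorProduct.neg_tmul, TensorProduct.tmul_neg]
    abel
  obtain ⟨s, hs⟩ := exists_descent A B z.left (congrArg CommaMorphism.left hz)
  refine ⟨s, ?_⟩
  haveI := epi_spec A B
  rw [← cancel_epi (Spec.map (CommRingCat.ofHom (algebraMap A B))), reassoc_of% hs]
  exact Over.w z

/-- Torsors of the multiplicative group have sections near each prime of an affine open. -/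
theorem exists_hasSectionOver_gm {X : Over S} (a : AlgGrp.Action (Red.Gm S) X) (ha : NonAbH1.IsPseudoTorsorSch a)
    {A B : Type u} [CommRing A] [CommRing B] [Algebra A B] [Module.FaithfullyFlat A B]
    (j : Spec (CommRingCat.of A) ⟶ S) (x : Over.mk (base j B) ⟶ X) (p : PrimeSpectrum A) :
    ∃ t : A, t ∉ p.asIdeal ∧ NonAbH1.HasSectionOver X
      (Spec.map (CommRingCat.ofHom (algebraMap A (Localization.Away t))) ≫ j) := by
  obtain ⟨g, hg, hc⟩ := exists_cocycle a ha j x
  have hc' := congrArg gmVal hc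
  rw [gmVal_mul, gmVal_mor, gmVal_mor, gmVal_mor] at hc'
  obtain ⟨v, hv⟩ := (isUnit_gmVal g).exists_right_inv
  obtain ⟨t, m, n, ht, hm, hmn⟩ := exists_trivializing (gmVal g) v hv hc' p.asIdeal
  refine ⟨t, ht, ?_⟩
  let A' := Localization.Away t
  let B' := A' ⊗[A] B
  let j' := Spec.map (CommRingCat.ofHom (algebraMap A A')) ≫ j
  let incB : B →+* B' := (Algebra.TensorProduct.includeRight : B →ₐ[A] B').toRingHom
  have hincB : Spec.map (CommRingCat.ofHom incB) ≫ base j B = base j' B' := by
    simp only [base, j', ← Category.assoc, ← Spec.map_comp, ← CommRingCat.ofHom_comp]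
    congr 3
    rw [← IsScalarTower.algebraMap_eq A A' B']
    exact (Algebra.TensorProduct.includeRight : B →ₐ[A] B').comp_algebraMap
  have hu : IsUnit (incB m) := by
    refine isUnit_of_mul_isUnit_left (y := incB n) ?_
    rw [← map_mul, hmn]
    change IsUnit (incB.comp (algebraMap A B) t)
    rw [show incB.comp (algebraMap A B) = algebraMap A B' from
      (Algebra.TensorProduct.includeRight : B →ₐ[A] B').comp_algebraMap, IsScalarTower.algebraMap_eq A A' B']
    exact (IsLocalization.Away.algebraMap_isUnit t).map (algebraMap A' B')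
  obtain ⟨h, hh⟩ := exists_gmVal (f := base j' B') (incB m) hu
  let q : Over.mk (base j' B') ⟶ Over.mk (base j B) := mor incB hincB
  let z := lift h (q ≫ x) ≫ a.act
  let l' : B' →ₐ[A'] B' ⊗[A'] B' := Algebra.TensorProduct.includeLeft
  let r' : B' →ₐ[A'] B' ⊗[A'] B' := Algebra.TensorProduct.includeRight
  let χ := Algebra.TensorProduct.productMap (R := A) (S := B' ⊗[A'] B')
    ((l'.restrictScalars A).comp Algebra.TensorProduct.includeRight)
    ((r'.restrictScalars A).comp Algebra.TensorProduct.includeRight)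
  have hχl : ∀ b : B, χ (b ⊗ₜ[A] 1) = l' (incB b) := fun b => Algebra.TensorProduct.productMap_left_apply _ _ b
  have hχr : ∀ b : B, χ ((1 : B) ⊗ₜ[A] b) = r' (incB b) := fun b => Algebra.TensorProduct.productMap_right_apply _ _ b
  have hχ : Spec.map (CommRingCat.ofHom χ.toRingHom) ≫ base j (B ⊗[A] B) = base j' (B' ⊗[A'] B') := by
    simp only [base, j', ← Category.assoc, ← Spec.map_comp, ← CommRingCat.ofHom_comp]
    congr 3
    rw [← IsScalarTower.algebraMap_eq A A' (B' ⊗[A'] B')]
    exact χ.comp_algebraMap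
  let Q : Over.mk (base j' (B' ⊗[A'] B')) ⟶ Over.mk (base j (B ⊗[A] B)) := mor χ.toRingHom hχ
  have el : amor j' (C' := B' ⊗[A'] B') l' ≫ q = Q ≫ amor j (Algebra.TensorProduct.includeLeft : B →ₐ[A] B ⊗[A] B) := by
    refine Over.OverMorphism.ext ?_
    simp only [q, Q, amor, mor, Over.comp_left, Over.homMk_left, ← Spec.map_comp, ← CommRingCat.ofHom_comp]
    congr 2
    exact RingHom.ext fun b => (hχl b).symm
  have er : amor j' (C' := B' ⊗[A'] B') r' ≫ q = Q ≫ amor j (Algebra.TensorProduct.includeRight : B →ₐ[A] B ⊗[A] B) := by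
    refine Over.OverMorphism.ext ?_
    simp only [q, Q, amor, mor, Over.comp_left, Over.homMk_left, ← Spec.map_comp, ← CommRingCat.ofHom_comp]
    congr 2
    exact RingHom.ext fun b => (hχr b).symm
  have hz : amor j' (C' := B' ⊗[A'] B') l' ≫ z = amor j' (C' := B' ⊗[A'] B') r' ≫ z := by
    simp only [z, comp_act]
    rw [← Category.assoc, el, ← Category.assoc, er, Category.assoc, Category.assoc, ← hg, comp_act, ← act_mul]
    congr 2
    refine gmVal_injective ?_
    rw [gmVal_mul, gmVal_mor, gmVal_mor, gmVal_mor, hh]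
    change l' (incB m) = r' (incB m) * χ (gmVal g)
    rw [← hχl, ← hχr, ← hm, map_mul]
    exact _root_.mul_comm (χ (gmVal g)) (χ ((1 : B) ⊗ₜ[A] m))
  obtain ⟨s, hs⟩ := exists_descent A' B' z.left (congrArg CommaMorphism.left hz)
  refine ⟨s, ?_⟩
  haveI := epi_spec A' B'
  rw [← cancel_epi (Spec.map (CommRingCat.ofHom (algebraMap A' B'))), reassoc_of% hs]
  exact Over.w z

theorem isTorsorFor_zariski_ga {X : Over S} (a : AlgGrp.Action (Red.Ga S) X)
    (h : NonAbH1.IsTorsorFor Scheme.fpqcPrecoverage a) :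
    NonAbH1.IsTorsorFor Scheme.zariskiPrecoverage a := by
  obtain ⟨T, σ, hT, hX⟩ := TorsorDesc.exists_trivializing a h
  haveI : SchDesc.IsFpqc T.hom := hT
  haveI : IsZariskiLocalAtTarget (@Flat : MorphismProperty Scheme.{u}) :=
    HasRingHomProperty.instIsZariskiLocalAtTarget _
  haveI : IsAffineHom X.hom :=
    TorsorDesc.prop_of_isFpqc (@IsAffineHom : MorphismProperty Scheme.{u}) FpqcDesc.isAffineHom_descends X.hom T.hom (hX _ isAffineHom_Ga)
  haveI : Flat X.hom := TorsorDesc.prop_of_isFpqc (@Flat : MorphismProperty Scheme.{u}) inferInstance X.hom T.hom (hX _ flat_Ga)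
  haveI : Surjective X.hom := ⟨fun s => by
    obtain ⟨t, rfl⟩ := T.hom.surjective s
    exact ⟨σ.left t, by rw [← Scheme.Hom.comp_apply, Over.w σ]⟩⟩
  refine ⟨h.1, isLocallyTrivialFor_zariski X fun s => ?_⟩
  obtain ⟨A, B, _, _, _, _, j, x, hj, hs, hx⟩ := exists_local_point X s
  exact ⟨_, j, hj, hs, hasSectionOver_ga a h.1 j (Over.homMk x hx)⟩

theorem isTorsorFor_zariski_gm {X : Over S} (a : AlgGrp.Action (Red.Gm S) X)
    (h : NonAbH1.IsTorsorFor Scheme.fpqcPrecoverage a) :
    NonAbH1.IsTorsorFor Scheme.zariskiPrecoverage a := by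
  obtain ⟨T, σ, hT, hX⟩ := TorsorDesc.exists_trivializing a h
  haveI : SchDesc.IsFpqc T.hom := hT
  haveI : IsZariskiLocalAtTarget (@Flat : MorphismProperty Scheme.{u}) :=
    HasRingHomProperty.instIsZariskiLocalAtTarget _
  haveI : IsAffineHom X.hom :=
    TorsorDesc.prop_of_isFpqc (@IsAffineHom : MorphismProperty Scheme.{u}) FpqcDesc.isAffineHom_descends X.hom T.hom (hX _ isAffineHom_Gm)
  haveI : Flat X.hom := TorsorDesc.prop_of_isFpqc (@Flat : MorphismProperty Scheme.{u}) inferInstance X.hom T.hom (hX _ flat_Gm)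
  haveI : Surjective X.hom := ⟨fun s => by
    obtain ⟨t, rfl⟩ := T.hom.surjective s
    exact ⟨σ.left t, by rw [← Scheme.Hom.comp_apply, Over.w σ]⟩⟩
  refine ⟨h.1, isLocallyTrivialFor_zariski X fun s => ?_⟩
  obtain ⟨A, B, _, _, _, _, j, x, hj, ⟨p, rfl⟩, hx⟩ := exists_local_point X s
  obtain ⟨t, ht, hsec⟩ := exists_hasSectionOver_gm a h.1 j (Over.homMk x hx) p
  haveI : IsOpenImmersion (Spec.map (CommRingCat.ofHom (algebraMap A (Localization.Away t)))) :=
    IsOpenImmersion.of_isLocalization t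
  refine ⟨_, _, inferInstance, ?_, hsec⟩
  obtain ⟨p', hp'⟩ : p ∈ Set.range (PrimeSpectrum.comap (algebraMap A (Localization.Away t))) := by
    rw [PrimeSpectrum.localization_away_comap_range (Localization.Away t) t]
    exact ht
  exact ⟨p', by rw [Scheme.Hom.comp_apply]; exact congrArg j hp'⟩

end Groth.Agent.GmTorsor
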