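import Groth.Agent.GaPoints.Basic
import Groth.Agent.GaGmHom

/-! Points of the additive and multiplicative groups with values in affine schemes. -/

set_option autoImplicit false
set_option backward.isDefEq.respectTransparency false
set_option backward.defeqAttrib.useBackward true
set_option backward.isDefEq.respectTransparency.types false

universe u
open CategoryTheory Limits MonoidalCategory CartesianMonoidalCategory MonObj GrpObj AlgebraicGeometry
open scoped TensorProduct

noncomputable section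

namespace Groth.Agent.GmTorsor

open Groth.Agent.GaPoints (ringMap exists_ringMap ringMap_comp_SpecMap)

abbrev L : Type u := MonoidAlgebra (ULift.{u} ℤ) (Multiplicative ℤ)

abbrev gen : L.{u} := MonoidAlgebra.single (Multiplicative.ofAdd (1 : ℤ)) 1

/-- Multiplication on points of the multiplicative group over the integers. -/
theorem gmZ_mul {Y : Over (Spec (CommRingCat.of (ULift.{u} ℤ)))} (x y : Y ⟶ Red.diag (ULift.{u} ℤ) ℤ) :
    ringMap (R := CommRingCat.of L.{u}) (x * y).left gen =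
      ringMap (R := CommRingCat.of L.{u}) x.left gen * ringMap (R := CommRingCat.of L.{u}) y.left gen := by
  let j₁ : CommRingCat.of L.{u} ⟶ CommRingCat.of (L.{u} ⊗[(ULift.{u} ℤ)] L.{u}) :=
    CommRingCat.ofHom Algebra.TensorProduct.includeLeftRingHom
  let j₂ : CommRingCat.of L.{u} ⟶ CommRingCat.of (L.{u} ⊗[(ULift.{u} ℤ)] L.{u}) :=
    CommRingCat.ofHom (R := L.{u}) (S := L.{u} ⊗[(ULift.{u} ℤ)] L.{u})
      (RingHomClass.toRingHom (Algebra.TensorProduct.includeRight : L.{u} →ₐ[(ULift.{u} ℤ)] L.{u} ⊗[(ULift.{u} ℤ)] L.{u}))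
  let m : Y.left ⟶ Spec (CommRingCat.of (L.{u} ⊗[(ULift.{u} ℤ)] L.{u})) :=
    (CartesianMonoidalCategory.lift x y).left ≫ (pullbackSpecIso (ULift.{u} ℤ) L.{u} L.{u}).hom
  have h₁ : m ≫ Spec.map j₁ = x.left := by
    simp only [m, j₁, Category.assoc]
    erw [pullbackSpecIso_hom_fst]
    simp
    exact pullback.lift_fst _ _ _
  have h₂ : m ≫ Spec.map j₂ = y.left := by
    simp only [m, j₂, Category.assoc]
    erw [pullbackSpecIso_hom_snd]
    simp
    exact pullback.lift_snd _ _ _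
  have h₀ : (x * y).left = m ≫ Spec.map (CommRingCat.ofHom (Bialgebra.comulAlgHom (ULift.{u} ℤ) L.{u}).toRingHom) := by
    rw [Hom.mul_def, Over.comp_left]
    erw [mul_spec_asOver_spec_left]
    simp [m]
  rw [h₀, ← h₁, ← h₂, ringMap_comp_SpecMap, ringMap_comp_SpecMap, ringMap_comp_SpecMap, ← map_mul]
  congr 1
  simp [j₁, j₂, gen]

variable {S : Scheme.{u}}

theorem gmFn_mul {X : Over S} (x y : X ⟶ Red.Gm S) : Red.gmFn (x * y) = Red.gmFn x * Red.gmFn y := by
  let t := IsTerminal.from specULiftZIsTerminal S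
  let adj := Over.mapPullbackAdj t
  obtain ⟨a, rfl⟩ := (adj.homEquiv X (Red.diag (ULift.{u} ℤ) ℤ)).surjective x
  obtain ⟨b, rfl⟩ := (adj.homEquiv X (Red.diag (ULift.{u} ℤ) ℤ)).surjective y
  have hm : adj.homEquiv X (Red.diag (ULift.{u} ℤ) ℤ) (a * b) = adj.homEquiv X (Red.diag (ULift.{u} ℤ) ℤ) a * adj.homEquiv X (Red.diag (ULift.{u} ℤ) ℤ) b := by
    simp only [Adjunction.homEquiv_unit, Functor.map_mul, MonObj.comp_mul]
  have key : ∀ c : (Over.map t).obj X ⟶ Red.diag (ULift.{u} ℤ) ℤ,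
      Red.gmFn (adj.homEquiv X (Red.diag (ULift.{u} ℤ) ℤ) c) = ringMap (R := CommRingCat.of L.{u}) c.left gen := by
    intro c
    conv_rhs => rw [← (adj.homEquiv X (Red.diag (ULift.{u} ℤ) ℤ)).symm_apply_apply c, Adjunction.homEquiv_counit]
    simp [adj, Red.gmFn]
    rfl
  rw [← hm, key, key, key]
  exact gmZ_mul a b

theorem gmFn_surjective {X : Over S} (b : Γ(X.left, ⊤)) (hb : IsUnit b) :
    ∃ x : X ⟶ Red.Gm S, Red.gmFn x = b := by
  obtain ⟨v, rfl⟩ := hb
  obtain ⟨φ, hφ⟩ := (AffPts.laurentEquiv Γ(X.left, ⊤)).surjective v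
  obtain ⟨q, hq⟩ := exists_ringMap (R := CommRingCat.of L.{u}) φ
  refine ⟨Over.homMk (pullback.lift q X.hom (specULiftZIsTerminal.hom_ext _ _)) (pullback.lift_snd _ _ _), ?_⟩
  change ringMap ((pullback.lift q X.hom _) ≫ pullback.fst _ _) gen = _
  rw [pullback.lift_fst, hq, ← hφ]
  rfl

/-- The additive function of a point with values in a spectrum. -/
def gaVal {C : Type u} [CommRing C] {f : Spec (CommRingCat.of C) ⟶ S} (g : Over.mk f ⟶ Red.Ga S) : C :=
  (Scheme.ΓSpecIso (CommRingCat.of C)).hom (Red.gaFn g)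

/-- The invertible function of a point with values in a spectrum. -/
def gmVal {C : Type u} [CommRing C] {f : Spec (CommRingCat.of C) ⟶ S} (g : Over.mk f ⟶ Red.Gm S) : C :=
  (Scheme.ΓSpecIso (CommRingCat.of C)).hom (Red.gmFn g)

/-- The morphism of spectra over `S` of a ring map. -/
def mor {C C' : Type u} [CommRing C] [CommRing C'] {f : Spec (CommRingCat.of C) ⟶ S}
    {f' : Spec (CommRingCat.of C') ⟶ S} (ψ : C →+* C') (h : Spec.map (CommRingCat.ofHom ψ) ≫ f = f') :
    Over.mk f' ⟶ Over.mk f :=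
  Over.homMk (Spec.map (CommRingCat.ofHom ψ)) h

section
variable {C C' : Type u} [CommRing C] [CommRing C'] {f : Spec (CommRingCat.of C) ⟶ S}
    {f' : Spec (CommRingCat.of C') ⟶ S}

theorem gammaSpec_map (ψ : C →+* C') (z : Γ(Spec (CommRingCat.of C), ⊤)) :
    (Scheme.ΓSpecIso (CommRingCat.of C')).hom ((Spec.map (CommRingCat.ofHom ψ)).appTop z) =
      ψ ((Scheme.ΓSpecIso (CommRingCat.of C)).hom z) :=
  ConcreteCategory.congr_hom (Scheme.ΓSpecIso_naturality (CommRingCat.ofHom ψ)) z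

theorem gaVal_mor (ψ : C →+* C') (h : Spec.map (CommRingCat.ofHom ψ) ≫ f = f') (g : Over.mk f ⟶ Red.Ga S) :
    gaVal (mor ψ h ≫ g) = ψ (gaVal g) := by
  rw [gaVal, GaPoints.gaFn_comp]
  exact gammaSpec_map ψ _

theorem gaVal_mul (g g' : Over.mk f ⟶ Red.Ga S) : gaVal (g * g') = gaVal g + gaVal g' := by
  rw [gaVal, GaPoints.gaFn_mul, map_add]
  rfl

theorem gaVal_injective : Function.Injective (gaVal (f := f)) :=
  (ConcreteCategory.bijective_of_isIso (Scheme.ΓSpecIso (CommRingCat.of C)).hom).1.comp GaPoints.gaFn_injective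

theorem exists_gaVal (c : C) : ∃ g : Over.mk f ⟶ Red.Ga S, gaVal g = c := by
  obtain ⟨d, rfl⟩ := (ConcreteCategory.bijective_of_isIso (Scheme.ΓSpecIso (CommRingCat.of C)).hom).2 c
  obtain ⟨g, hg⟩ := GaPoints.gaFn_surjective (X := Over.mk f) d
  exact ⟨g, congrArg _ hg⟩

theorem gmVal_mor (ψ : C →+* C') (h : Spec.map (CommRingCat.ofHom ψ) ≫ f = f') (g : Over.mk f ⟶ Red.Gm S) :
    gmVal (mor ψ h ≫ g) = ψ (gmVal g) := by
  rw [gmVal, GaGmHom.gmFn_comp]
  exact gammaSpec_map ψ _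

theorem gmVal_mul (g g' : Over.mk f ⟶ Red.Gm S) : gmVal (g * g') = gmVal g * gmVal g' := by
  rw [gmVal, gmFn_mul, map_mul]
  rfl

theorem isUnit_gmVal (g : Over.mk f ⟶ Red.Gm S) : IsUnit (gmVal g) :=
  (GaGmHom.isUnit_gmFn g).map (Scheme.ΓSpecIso (CommRingCat.of C)).hom.hom

theorem gmVal_injective : Function.Injective (gmVal (f := f)) :=
  (ConcreteCategory.bijective_of_isIso (Scheme.ΓSpecIso (CommRingCat.of C)).hom).1.comp GaGmHom.gmFn_injective

theorem exists_gmVal (c : C) (hc : IsUnit c) : ∃ g : Over.mk f ⟶ Red.Gm S, gmVal g = c := by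
  have hd : IsUnit ((Scheme.ΓSpecIso (CommRingCat.of C)).inv c) := hc.map (Scheme.ΓSpecIso (CommRingCat.of C)).inv.hom
  obtain ⟨g, hg⟩ := gmFn_surjective (X := Over.mk f) _ hd
  refine ⟨g, ?_⟩
  rw [gmVal, hg]
  simp

end

instance isAffineHom_Ga : IsAffineHom (Red.Ga S).hom := by
  haveI : IsAffine (Red.GaZ.{u}).left := isAffine_Spec _
  haveI : IsAffineHom (Red.GaZ.{u}).hom := isAffineHom_of_isAffine _
  exact MorphismProperty.pullback_snd _ _ inferInstance

instance isAffineHom_Gm : IsAffineHom (Red.Gm S).hom := by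
  haveI : IsAffine (Red.diag (ULift.{u} ℤ) ℤ).left := isAffine_Spec _
  haveI : IsAffineHom (Red.diag (ULift.{u} ℤ) ℤ).hom := isAffineHom_of_isAffine _
  exact MorphismProperty.pullback_snd _ _ inferInstance

instance flat_Ga : Flat (Red.Ga S).hom := by
  haveI : Flat (Red.GaZ.{u}).hom := by
    refine (HasRingHomProperty.Spec_iff (P := @Flat)).mpr ?_
    exact (RingHom.flat_algebraMap_iff).mpr inferInstance
  exact MorphismProperty.pullback_snd _ _ inferInstance

instance flat_Gm : Flat (Red.Gm S).hom := by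
  haveI : Flat (Red.diag (ULift.{u} ℤ) ℤ).hom := by
    refine (HasRingHomProperty.Spec_iff (P := @Flat)).mpr ?_
    exact (RingHom.flat_algebraMap_iff).mpr inferInstance
  exact MorphismProperty.pullback_snd _ _ inferInstance

end Groth.Agent.GmTorsor
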